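import Cfsg.Agent.Mrg.Omega.TitsIso.Rel

section


/-!
# The Tits group satisfies the relations; its class of central involutions has at least 703 elements
-/

set_option autoImplicit false

namespace Cfsg.Agent.Omega.TitsIso.Model

open Cfsg.Agent.ChevalleyStructure.Tits.Pack Cfsg.Agent.ChevalleyStructure.Tits.Data
  Cfsg.Agent.ChevalleyStructure.Tits.Sat Cfsg.Agent.ChevalleyStructure.Tits.Final
  Cfsg.Agent.ChevalleyStructure.Tits.Mat Cfsg.Agent.ChevalleyStructure.Tits.Order
  Cfsg.Agent.ChevalleyStructure.Tits.Main Cfsg.Agent.Omega.TitsIso.TitsSideRel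
  Cfsg.Agent.Omega.TitsIso.TitsSide Cfsg.Agent.Omega.TitsIso.TitsSideIdx

open scoped MatrixGroups

/-- the matrix of an element of the derived subgroup -/
noncomputable def mt (x : ↥(commutator ChevalleyStructure.Tits.Order.H0)) : Matrix I52 I52 (ZMod 2) :=
  (((x : ChevalleyStructure.Tits.Order.H0) : GL I52 (ZMod 2)) : Matrix I52 I52 (ZMod 2))

theorem mt_mul (x y : ↥(commutator ChevalleyStructure.Tits.Order.H0)) : mt (x * y) = mt x * mt y := by
  unfold mt
  rw [Subgroup.coe_mul, Subgroup.coe_mul, Units.val_mul]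

theorem mt_injective : Function.Injective mt := by
  intro x y h
  apply Subtype.ext
  apply Subtype.ext
  exact Units.ext h

theorem toMat_zp (i : ZMod 8) : toMat (zp i.val) = mt (ZC i) := by
  rw [zp_ok i, toMat_evalW]
  unfold mt
  have h1 : ((ZC i : ↥(commutator ChevalleyStructure.Tits.Order.H0)) : ChevalleyStructure.Tits.Order.H0) = ((zw i).map yH).prod := rfl
  have hlt : ∀ k ∈ zw i, k < 12 := fun k hk => by have := zw_lt i k hk; omega
  rw [h1, coe_list _ (zw_lt i), coe_word _ hlt]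

theorem exists_val {j : ℕ} (hj : j < 8) : ∃ i : ZMod 8, i.val = j := by
  refine ⟨(j : ZMod 8), ?_⟩
  rw [ZMod.val_natCast]
  exact Nat.mod_eq_of_lt hj

/-- `X` is the packed matrix of a conjugate of the first involution -/
def IsCl (X : ℕ) : Prop := ∃ g : ↥(commutator ChevalleyStructure.Tits.Order.H0), toMat X = mt (g * ZC 0 * g⁻¹)

theorem ZC_sq (i : ZMod 8) : ZC i * ZC i = 1 := rels_ZC.1 i

theorem IsCl.step {X : ℕ} (h : IsCl X) {j : ℕ} (hj : j < 8) : IsCl (cj j X) := by
  obtain ⟨g, hg⟩ := h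
  obtain ⟨i, rfl⟩ := exists_val hj
  refine ⟨ZC i * g, ?_⟩
  have hi : (ZC i)⁻¹ = ZC i := inv_eq_of_mul_eq_one_left (ZC_sq i)
  have h1 : ZC i * g * ZC 0 * (ZC i * g)⁻¹ = ZC i * (g * ZC 0 * g⁻¹) * ZC i := by
    rw [mul_inv_rev, hi]
    simp only [mul_assoc]
  rw [h1, mt_mul, mt_mul, ← hg, ← toMat_zp]
  unfold cj
  rw [toMat_mulP, toMat_mulP]

theorem isCl_zero : IsCl (zp 0) := ⟨1, by
  rw [one_mul, inv_one, mul_one]
  exact toMat_zp 0⟩

theorem lab_eq {X Y : ℕ} (h : toMat X = toMat Y) : lab X = lab Y := by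
  have h52 : (4503599627370496 : ℕ) = 2 ^ 52 := by norm_num
  have hl : ∀ X : ℕ, lab X = X % 2 ^ 52 := fun X => by
    show X % 4503599627370496 = _
    rw [h52]
  rw [hl, hl]
  apply Nat.eq_of_testBit_eq
  intro i
  rw [Nat.testBit_mod_two_pow, Nat.testBit_mod_two_pow]
  by_cases hi : i < 52
  · have key : ∀ r : I52, ix r = i → X.testBit i = Y.testBit i := by
      intro r hr
      have h1 := congrFun (congrFun h r) (Sum.inl 0)
      rw [toMat_apply, toMat_apply, ix_inl, hr] at h1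
      simp only [Fin.val_zero, mul_zero, zero_add] at h1
      revert h1
      cases X.testBit i <;> cases Y.testBit i <;> simp [bz]
    have hb : X.testBit i = Y.testBit i := by
      by_cases h4 : i < 4
      · exact key (Sum.inl ⟨i, h4⟩) rfl
      · refine key (Sum.inr ⟨i - 4, by omega⟩) ?_
        rw [ix_inr]
        show 4 + (i - 4) = i
        omega
    rw [hb]
  · simp [hi]

theorem labels_cl (l : List ℕ) (hl : ∀ j ∈ l, j < 8) : ∀ X, IsCl X → ∀ a ∈ labels X l, ∃ Y, IsCl Y ∧ lab Y = a := by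
  induction l with
  | nil =>
    intro X hX a ha
    have h1 : labels X [] = [lab X] := rfl
    rw [h1, List.mem_singleton] at ha
    exact ⟨X, hX, ha.symm⟩
  | cons j l ih =>
    intro X hX a ha
    have h1 : labels X (j :: l) = lab X :: labels (cj j X) l := rfl
    rw [h1, List.mem_cons] at ha
    rcases ha with ha | ha
    · exact ⟨X, hX, ha.symm⟩
    · exact ih (fun k hk => hl k (List.mem_cons_of_mem j hk)) _ (hX.step (hl j List.mem_cons_self)) a ha

theorem exists_of_mem {a : ℕ} (ha : a ∈ labs) : ∃ g : ↥(commutator ChevalleyStructure.Tits.Order.H0), ∃ X, toMat X = mt (g * ZC 0 * g⁻¹) ∧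
    lab X = a := by
  rw [← labels_ok] at ha
  have hlt : ∀ j ∈ path, j < 8 := by
    have h := path_lt
    rw [List.all_eq_true] at h
    intro j hj
    have := h j hj
    rwa [Nat.blt_eq] at this
  obtain ⟨Y, ⟨g, hg⟩, hY⟩ := labels_cl path hlt (zp 0) isCl_zero a ha
  exact ⟨g, Y, hg, hY⟩

theorem le_index : 703 ≤ (Subgroup.centralizer ({ZC 0} : Set ↥(commutator ChevalleyStructure.Tits.Order.H0))).index := by
  classical
  choose g X hg hX using fun a : {a // a ∈ labs.toFinset} => exists_of_mem (List.mem_toFinset.1 a.2)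
  have hinj : Function.Injective fun a : {a // a ∈ labs.toFinset} =>
      (QuotientGroup.mk (g a) : ↥(commutator ChevalleyStructure.Tits.Order.H0) ⧸ Subgroup.centralizer ({ZC 0} : Set ↥(commutator ChevalleyStructure.Tits.Order.H0))) := by
    intro a b hab
    have h1 := QuotientGroup.eq.1 hab
    rw [Subgroup.mem_centralizer_singleton_iff] at h1
    have h2 : g a * ZC 0 * (g a)⁻¹ = g b * ZC 0 * (g b)⁻¹ := by
      have h3 : (g a)⁻¹ * g b * ZC 0 = ZC 0 * ((g a)⁻¹ * g b) := h1
      rw [mul_inv_eq_iff_eq_mul]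
      calc g a * ZC 0 = g a * (ZC 0 * ((g a)⁻¹ * g b)) * ((g b)⁻¹ * g a) := by group
        _ = g a * ((g a)⁻¹ * g b * ZC 0) * ((g b)⁻¹ * g a) := by rw [h3]
        _ = g b * ZC 0 * (g b)⁻¹ * g a := by group
    have h4 : toMat (X a) = toMat (X b) := by rw [hg a, hg b, h2]
    have h5 := lab_eq h4
    rw [hX a, hX b] at h5
    exact Subtype.ext h5
  have h6 : Nat.card {a // a ∈ labs.toFinset} = 703 := by
    rw [Nat.card_eq_fintype_card, Fintype.card_coe, List.toFinset_card_of_nodup labs_nodup, labs_length]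
  rw [← h6]
  exact Nat.card_le_card_of_injective _ hinj

theorem titsRel_ZC : TitsRel ZC := by
  obtain ⟨h1, h2, h3, h4, h5, h6, h7⟩ := rels_ZC
  exact ⟨h1, h2, h3, h4, h5, h6, h7⟩

theorem exists_of_eq (K : Subgroup (GL I52 (ZMod 2))) (hK : K = ChevalleyStructure.Tits.Order.H0) :
    ∃ Z : ZMod 8 → ↥(commutator K), TitsRel Z ∧ Subgroup.closure (Set.range Z) = ⊤ ∧
      703 ≤ (Subgroup.centralizer ({Z 0} : Set ↥(commutator K))).index := by
  subst hK
  exact ⟨ZC, titsRel_ZC, closure_ZC, le_index⟩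

/-- **The Tits group is a model of the relations.** -/
theorem exists_titsRel : ∃ Z : ZMod 8 → Cfsg.Lie.TitsGroup, TitsRel Z ∧ Subgroup.closure (Set.range Z) = ⊤ ∧
    703 ≤ (Subgroup.centralizer ({Z 0} : Set Cfsg.Lie.TitsGroup)).index :=
  exists_of_eq (Cfsg.Lie.twistedF4 (ZMod 2) 1) T0_eq_H0

end Cfsg.Agent.Omega.TitsIso.Model

end

section


/-!
From the index bound to the isomorphism: a group `G` with the relations and `|G| ≤ |T|` is
isomorphic to the simple group `T` generated by elements with the relations.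
-/

set_option autoImplicit false

namespace Cfsg.Agent.Omega.TitsIso

section Prod

variable {G T : Type*} [Group G] [Group T] {Zg : ZMod 8 → G} {Zt : ZMod 8 → T}

/-- the pairs -/
def Zp (Zg : ZMod 8 → G) (Zt : ZMod 8 → T) (i : ZMod 8) : G × T := (Zg i, Zt i)

theorem C_Zp (i : ZMod 8) : C (Zp Zg Zt) i = (C Zg i, C Zt i) := by
  simp [C, Zp, Prod.mk_mul_mk]

theorem TitsRel.prod (hg : TitsRel Zg) (ht : TitsRel Zt) : TitsRel (Zp Zg Zt) where
  sq i := by simp only [Zp, Prod.mk_mul_mk, hg.sq, ht.sq]; rfl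
  c1 i := by simp only [Zp, Prod.mk_mul_mk, hg.c1 i, ht.c1 i]
  c2 i := by simp only [Zp, Prod.mk_mul_mk, hg.c2 i, ht.c2 i]
  o4 i := by simp only [Zp, Prod.mk_mul_mk, Prod.pow_mk, hg.o4 i, ht.o4 i]; rfl
  o5 i := by simp only [Zp, Prod.mk_mul_mk, Prod.pow_mk, hg.o5 i, ht.o5 i]; rfl
  r i := by
    rw [C_Zp]; simp only [Zp, Prod.mk_mul_mk, Prod.inv_mk, hg.r i, ht.r i]
  l i := by
    rw [C_Zp]; simp only [Zp, Prod.mk_mul_mk, Prod.inv_mk, hg.l i, ht.l i]

/-- relations pull back along injective homomorphisms -/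
theorem TitsRel.of_injective {M N : Type*} [Group M] [Group N] (f : M →* N)
    (hf : Function.Injective f) {Z : ZMod 8 → M} (h : TitsRel (fun i => f (Z i))) : TitsRel Z := by
  have hC : ∀ i, f (C Z i) = C (fun i => f (Z i)) i := by intro i; simp [C]
  refine ⟨fun i => hf ?_, fun i => hf ?_, fun i => hf ?_, fun i => hf ?_, fun i => hf ?_,
    fun i => hf ?_, fun i => hf ?_⟩
  · simpa using h.sq i
  · simpa using h.c1 i
  · simpa using h.c2 i
  · simpa using h.o4 i
  · simpa using h.o5 i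
  · simpa [hC] using h.r i
  · simpa [hC] using h.l i

end Prod

theorem TitsRel.mul_pow_eq {M : Type*} [Group M] {Z : ZMod 8 → M} (h : TitsRel Z)
    (hne : Z 0 ≠ Z 4) {k l : ℕ} (hk : k < 5) (hl : l < 5)
    (hc : Commute (Z 0) (((Z 0 * Z 4) ^ k)⁻¹ * (Z 0 * Z 4) ^ l)) : k = l := by
  set u := Z 0 * Z 4 with hu
  have h5 : u ^ 5 = 1 := by have := h.o5 0; rwa [zero_add] at this
  have hu1 : u ≠ 1 := by
    intro e
    apply hne
    have := mul_eq_one_iff_eq_inv.mp e
    rw [this, h.inv]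
  have : Fact (Nat.Prime 5) := ⟨by norm_num⟩
  have ho : orderOf u = 5 := orderOf_eq_prime h5 hu1
  have hinv : Z 0 * u * (Z 0)⁻¹ = u⁻¹ := by
    rw [hu, mul_inv_rev, h.inv 0, h.inv 4, ← mul_assoc, h.sq, one_mul]
  have hd : Commute (Z 0) (u ^ ((l : ℤ) - k)) := by
    have : (u ^ k)⁻¹ * u ^ l = u ^ ((l : ℤ) - k) := by
      rw [sub_eq_neg_add, zpow_add, zpow_neg, zpow_natCast, zpow_natCast]
    rwa [this] at hc
  have h2 : (u ^ ((l : ℤ) - k)) = (u ^ ((l : ℤ) - k))⁻¹ := by
    have e1 : Z 0 * u ^ ((l : ℤ) - k) * (Z 0)⁻¹ = u ^ ((l : ℤ) - k) := by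
      rw [hd.eq, mul_inv_cancel_right]
    rw [← conj_zpow, hinv, inv_zpow] at e1
    exact e1.symm
  have h3 : u ^ (2 * ((l : ℤ) - k)) = 1 := by
    rw [two_mul, zpow_add]
    nth_rewrite 1 [h2]
    exact inv_mul_cancel _
  have h4 := orderOf_dvd_iff_zpow_eq_one.mpr h3
  rw [ho] at h4
  push_cast at h4
  omega

/-- **Goursat**: the isomorphism. -/
theorem iso_of_rel.{u, v} {G : Type u} {T : Type v} [Group G] [Group T] [Finite G] [Finite T]
    [IsSimpleGroup T] (hI : IndexLe.{max u v}) {Zg : ZMod 8 → G} {Zt : ZMod 8 → T} (hg : TitsRel Zg) (ht : TitsRel Zt)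
    (gen : Subgroup.closure (Set.range Zt) = ⊤) (hne : Zg 0 ≠ Zg 4)
    (hcard : Nat.card G ≤ Nat.card T)
    (hT : 703 ≤ (Subgroup.centralizer {Zt 0}).index) : Nonempty (G ≃* T) := by
  classical
  set S : Subgroup (G × T) := Subgroup.closure (Set.range (Zp Zg Zt)) with hS
  have hmem : ∀ i, Zp Zg Zt i ∈ S := fun i => Subgroup.subset_closure ⟨i, rfl⟩
  set Z : ZMod 8 → S := fun i => ⟨Zp Zg Zt i, hmem i⟩ with hZ
  have hrel : TitsRel Z := TitsRel.of_injective S.subtype S.subtype_injective (hg.prod ht)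
  have hgen : Subgroup.closure (Set.range Z) = ⊤ := by
    apply Subgroup.map_injective S.subtype_injective
    rw [MonoidHom.map_closure, ← Set.range_comp, ← MonoidHom.range_eq_map, Subgroup.range_subtype]
    exact hS.symm
  obtain ⟨hidx, hidx0⟩ := hI S Z hrel hgen
  set p1 : S →* G := (MonoidHom.fst G T).comp S.subtype with hp1
  set p2 : S →* T := (MonoidHom.snd G T).comp S.subtype with hp2
  have hp1Z : ∀ i, p1 (Z i) = Zg i := fun i => rfl
  have hp2Z : ∀ i, p2 (Z i) = Zt i := fun i => rfl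
  have hp2s : Function.Surjective p2 := by
    rw [← MonoidHom.range_eq_top, eq_top_iff, ← gen, Subgroup.closure_le]
    rintro _ ⟨i, rfl⟩
    exact ⟨Z i, hp2Z i⟩
  have hext : ∀ m : S, p1 m = 1 → p2 m = 1 → m = 1 := by
    intro m h1 h2
    apply Subtype.ext
    exact Prod.ext h1 h2
  have hnorm : (p1.ker.map p2).Normal := Subgroup.Normal.map inferInstance p2 hp2s
  rcases hnorm.eq_bot_or_eq_top with hb | ht'
  · have hinj1 : Function.Injective p1 := by
      rw [injective_iff_map_eq_one]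
      intro m hm
      apply hext m hm
      have : p2 m ∈ p1.ker.map p2 := ⟨m, hm, rfl⟩
      rw [hb] at this
      exact Subgroup.mem_bot.mp this
    have hc1 : Nat.card S ≤ Nat.card G := Nat.card_le_card_of_injective p1 hinj1
    have hc2 : Nat.card T ≤ Nat.card S := Nat.card_le_card_of_surjective p2 hp2s
    have b1 : Function.Bijective p1 :=
      (Nat.bijective_iff_injective_and_card p1).mpr ⟨hinj1, by omega⟩
    have b2 : Function.Bijective p2 :=
      (Nat.bijective_iff_surjective_and_card p2).mpr ⟨hp2s, by omega⟩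
    exact ⟨(MulEquiv.ofBijective p1 b1).symm.trans (MulEquiv.ofBijective p2 b2)⟩
  · exfalso
    have hlift : ∀ t : T, ∃ m : S, p1 m = 1 ∧ p2 m = t := by
      intro t
      have : t ∈ p1.ker.map p2 := by rw [ht']; trivial
      obtain ⟨m, hm, hmt⟩ := this
      exact ⟨m, hm, hmt⟩
    choose lft hl1 hl2 using hlift
    let f : Fin 5 × (T ⧸ Subgroup.centralizer {Zt 0}) → S ⧸ Subgroup.centralizer {Z 0} :=
      fun x => QuotientGroup.mk (lft (x.2.out * ((Zt 0 * Zt 4) ^ (x.1 : ℕ))⁻¹) *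
        (Z 0 * Z 4) ^ (x.1 : ℕ))
    have hf : Function.Injective f := by
      rintro ⟨k, t⟩ ⟨l, t'⟩ hkl
      have hkl' := QuotientGroup.eq.mp hkl
      rw [Subgroup.mem_centralizer_singleton_iff] at hkl'
      have h1 := congrArg p1 hkl'
      have h2 := congrArg p2 hkl'
      simp only [map_mul, map_inv, map_pow, hp1Z, hp2Z, hl1, hl2, mul_inv_rev, one_mul, inv_one,
        mul_one] at h1 h2
      have hkl1 : (k : ℕ) = l := by
        refine hg.mul_pow_eq hne k.2 l.2 ?_
        exact h1.symm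
      have hkl2 : k = l := Fin.ext hkl1
      subst hkl2
      have h3 : t = t' := by
        rw [← t.out_eq', ← t'.out_eq']
        rw [Quotient.eq'', QuotientGroup.leftRel_apply, Subgroup.mem_centralizer_singleton_iff]
        simp only [inv_inv] at h2
        have e : ((Zt 0 * Zt 4) ^ (k : ℕ))⁻¹ * ((Zt 0 * Zt 4) ^ (k : ℕ) * (Quotient.out t)⁻¹) *
            (Quotient.out t' * ((Zt 0 * Zt 4) ^ (k : ℕ))⁻¹ * (Zt 0 * Zt 4) ^ (k : ℕ)) =
            (Quotient.out t)⁻¹ * Quotient.out t' := by group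
        rw [e] at h2
        exact h2
      rw [h3]
    have hc := Nat.card_le_card_of_injective f hf
    have h1 : Nat.card (Fin 5 × (T ⧸ Subgroup.centralizer {Zt 0})) =
        5 * (Subgroup.centralizer {Zt 0}).index := by
      rw [Nat.card_prod, Nat.card_fin]; rfl
    have h2 : Nat.card (S ⧸ Subgroup.centralizer {Z 0}) =
        (Subgroup.centralizer {Z 0}).index := rfl
    rw [h1, h2] at hc
    have h3 : (Subgroup.centralizer {Z 0}).index ≤ (H0 Z).index :=
      Subgroup.index_antitone hrel.H0_le_centralizer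
    omega

end Cfsg.Agent.Omega.TitsIso

end
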